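import Mathlib

/-!
# A central element of order three acts without fixed points (owner: helper28)

On an elementary abelian group of order `2 ^ 12`: the part moved by the central element is too small for an
element of order eleven unless its dimension is at least ten, and is the product of three conjugate fixed
spaces.
-/

set_option autoImplicit false

namespace CfsgLib.JankoFourBridge

variable {M V : Type*} [Group M] [CommGroup V] (φ : M →* MulAut V)

/-- The sum of the images under the powers of an element of order three. -/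
def tri (g : M) : V →* V where
  toFun v := v * φ g v * φ g (φ g v)
  map_one' := by simp
  map_mul' u v := by
    simp only [map_mul]
    rw [mul_mul_mul_comm u v, mul_mul_mul_comm]

theorem tri_apply (g : M) (v : V) : tri φ g v = v * φ g v * φ g (φ g v) := rfl

theorem act_mul (g h : M) (v : V) : φ (g * h) v = φ g (φ h v) := by rw [map_mul]; rfl

theorem act_cube {g : M} (hg : g ^ 3 = 1) (v : V) : φ g (φ g (φ g v)) = v := by
  rw [← act_mul, ← act_mul, show g * g * g = g ^ 3 by rw [pow_succ, pow_two], hg, map_one]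
  rfl

theorem act_tri {g : M} (hg : g ^ 3 = 1) (v : V) : φ g (tri φ g v) = tri φ g v := by
  rw [tri_apply, map_mul, map_mul, act_cube φ hg, mul_comm, ← mul_assoc]

theorem tri_fixed {g : M} {v : V} (h2 : ∀ v : V, v * v = 1) (h : φ g v = v) : tri φ g v = v := by
  rw [tri_apply, h, h, h2, one_mul]

theorem tri_comm {g h : M} (hc : Commute g h) (v : V) : tri φ g (φ h v) = φ h (tri φ g v) := by
  have hc' : ∀ w, φ g (φ h w) = φ h (φ g w) := fun w => by rw [← act_mul, hc.eq, act_mul]
  rw [tri_apply, tri_apply, map_mul, map_mul, hc', hc']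

theorem card_two_pow {A : Type*} [Group A] [Finite A] (h2 : ∀ a : A, a * a = 1) :
    ∃ n, Nat.card A = 2 ^ n := by
  haveI : Fact (Nat.Prime 2) := ⟨Nat.prime_two⟩
  exact IsPGroup.iff_card.1 fun a => ⟨1, by rw [pow_one, pow_two, h2]⟩

/-- A central element of order three acts trivially or without fixed points. -/
theorem fixed_eq_one [Finite M] [Finite V] (h2 : ∀ v : V, v * v = 1) (hV : Nat.card V = 2 ^ 12) {z r s x : M} (hz3 : z ^ 3 = 1)
    (hzc : ∀ m : M, Commute z m) (hr3 : r ^ 3 = 1)
    (hsr : s * r * s⁻¹ = z * r ∨ s * r * s⁻¹ = z * z * r) (hx : orderOf x = 11)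
    (hmax : ∀ K : Subgroup M, K.Normal → x ∈ K → K = ⊤) (hne : φ z ≠ 1) {v : V} (hv : φ z v = v) :
    v = 1 := by
  classical
  set W := (tri φ z).ker with hWdef
  have hW : ∀ {w : V}, w ∈ W ↔ tri φ z w = 1 := fun {w} => MonoidHom.mem_ker
  let Z0 : Subgroup V :=
    { carrier := {v | φ z v = v}
      one_mem' := map_one _
      mul_mem' := fun {a b} (ha : φ z a = a) (hb : φ z b = b) => show φ z (a * b) = a * b by rw [map_mul, ha, hb]
      inv_mem' := fun {a} (ha : φ z a = a) => show φ z a⁻¹ = a⁻¹ by rw [map_inv, ha] }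
  have hinvW : ∀ (m : M) {w : V}, w ∈ W → φ m w ∈ W := fun m {w} hw => by
    rw [hW] at hw ⊢
    rw [tri_comm φ (hzc m), hw, map_one]
  -- the decomposition
  have hdec : Nat.card V = Nat.card Z0 * Nat.card W := by
    rw [← Nat.card_prod]
    refine (Nat.card_eq_of_bijective (fun p : ↥Z0 × ↥W => (p.1 : V) * p.2) ⟨?_, ?_⟩).symm
    · rintro ⟨a, b⟩ ⟨a', b'⟩ e
      have e' : (a : V) * b = a' * b' := e
      have ha : (a : V) = a' := by
        have := congrArg (tri φ z) e'
        rwa [map_mul, map_mul, tri_fixed φ h2 a.2, tri_fixed φ h2 a'.2, hW.1 b.2, hW.1 b'.2, mul_one,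
          mul_one] at this
      rw [ha] at e'
      exact Prod.ext (Subtype.ext ha) (Subtype.ext (mul_left_cancel e'))
    · intro u
      refine ⟨⟨⟨tri φ z u, act_tri φ hz3 u⟩, ⟨tri φ z u * u, hW.2 ?_⟩⟩, ?_⟩
      · rw [map_mul, tri_fixed φ h2 (act_tri φ hz3 u), h2]
      · show tri φ z u * (tri φ z u * u) = u
        rw [← mul_assoc, h2, one_mul]
  obtain ⟨w, hw⟩ := card_two_pow (A := ↥W) fun a => Subtype.ext (h2 a)
  obtain ⟨z0, hz0⟩ := card_two_pow (A := ↥Z0) fun a => Subtype.ext (h2 a)
  have hsum : z0 + w = 12 := by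
    rw [hz0, hw, hV, ← pow_add] at hdec
    exact (Nat.pow_right_injective le_rfl hdec).symm
  -- the element of order eleven needs at least ten dimensions
  have h10 : 10 ≤ w := by
    by_contra hlt
    haveI : Fact (Nat.Prime 11) := ⟨by norm_num⟩
    let ψ : M →* MulAut ↥W :=
      { toFun := fun m =>
          { toFun := fun u => ⟨φ m u, hinvW m u.2⟩
            invFun := fun u => ⟨φ m⁻¹ u, hinvW _ u.2⟩
            left_inv := fun u => Subtype.ext (by
              show φ m⁻¹ (φ m u) = u
              rw [← act_mul, inv_mul_cancel, map_one]; rfl)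
            right_inv := fun u => Subtype.ext (by
              show φ m (φ m⁻¹ u) = u
              rw [← act_mul, mul_inv_cancel, map_one]; rfl)
            map_mul' := fun a b => Subtype.ext (map_mul (φ m) (a : V) b) }
        map_one' := MulEquiv.ext fun u => Subtype.ext (by show φ 1 (u : V) = u; rw [map_one]; rfl)
        map_mul' := fun m n => MulEquiv.ext fun u => Subtype.ext (act_mul φ m n u) }
    letI : MulAction (Subgroup.zpowers x) ↥W := MulAction.compHom ↥W (ψ.comp (Subgroup.zpowers x).subtype)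
    have hp : IsPGroup 11 (Subgroup.zpowers x) := IsPGroup.of_card (n := 1) (by rw [Nat.card_zpowers, hx, pow_one])
    have hmod := hp.card_modEq_card_fixedPoints ↥W
    let F : Subgroup ↥W :=
      { carrier := {u | ψ x u = u}
        one_mem' := map_one _
        mul_mem' := fun {a b} (ha : ψ x a = a) (hb : ψ x b = b) => show ψ x (a * b) = a * b by rw [map_mul, ha, hb]
        inv_mem' := fun {a} (ha : ψ x a = a) => show ψ x a⁻¹ = a⁻¹ by rw [map_inv, ha] }
    have hfix : MulAction.fixedPoints (Subgroup.zpowers x) ↥W = (F : Set ↥W) := by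
      ext u
      constructor
      · exact fun h => h ⟨x, Subgroup.mem_zpowers x⟩
      · intro h g
        obtain ⟨k, hk⟩ := g.2
        show ψ (g : M) u = u
        rw [← hk]
        have hx' : x ∈ (MulAction.stabilizer (MulAut ↥W) u).comap ψ := h
        exact Subgroup.zpow_mem _ hx' k
    obtain ⟨f, hf⟩ := card_two_pow (A := ↥F) fun a => Subtype.ext (Subtype.ext (h2 _))
    rw [hfix, hw, show Nat.card ↥(F : Set ↥W) = Nat.card F from rfl, hf] at hmod
    have hfw : f ≤ w := (Nat.pow_le_pow_iff_right (by norm_num : 1 < 2)).1 (by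
      rw [← hf, ← hw]; exact Nat.card_le_card_of_injective _ F.subtype_injective)
    have hfeq : f = w := by
      have hw' : w < 10 := by omega
      clear_value W
      revert hmod
      interval_cases w <;> interval_cases f <;> decide
    have hFtop : F = ⊤ := Subgroup.eq_top_of_card_eq _ (by rw [hf, hw, hfeq])
    have hker : ψ.ker = ⊤ := hmax _ inferInstance
      (MonoidHom.mem_ker.2 (MulEquiv.ext fun u => (hFtop ▸ Subgroup.mem_top u : u ∈ F)))
    refine hne (MulEquiv.ext fun u => ?_)
    have hu : tri φ z u * u ∈ W := hW.2 (by rw [map_mul, tri_fixed φ h2 (act_tri φ hz3 u), h2])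
    have h1 : φ z (tri φ z u * u) = tri φ z u * u :=
      congrArg Subtype.val (DFunLike.congr_fun (MonoidHom.mem_ker.1 (hker ▸ Subgroup.mem_top z : z ∈ ψ.ker))
        ⟨_, hu⟩)
    rw [map_mul, act_tri φ hz3] at h1
    exact mul_left_cancel h1
  -- three conjugate fixed spaces
  let a : ℕ → M := fun i => z ^ i * r
  let Fs : ℕ → Subgroup ↥W := fun i =>
    { carrier := {u | φ (a i) (u : V) = u}
      one_mem' := by simp
      mul_mem' := fun {p q} (hp : φ (a i) (p : V) = p) (hq : φ (a i) (q : V) = q) =>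
        show φ (a i) ((p : V) * q) = p * q by rw [map_mul, hp, hq]
      inv_mem' := fun {p} (hp : φ (a i) (p : V) = p) => show φ (a i) (p : V)⁻¹ = (p : V)⁻¹ by rw [map_inv, hp] }
  have hmove : ∀ i j, s * a i * s⁻¹ = a j → Nat.card (Fs i) ≤ Nat.card (Fs j) := by
    intro i j h
    refine Nat.card_le_card_of_injective (fun u : Fs i => (⟨⟨φ s (u : ↥W), hinvW s (u : ↥W).2⟩, ?_⟩ : Fs j)) ?_
    · show φ (a j) (φ s (u : ↥W)) = φ s (u : ↥W)
      rw [← act_mul, ← h, inv_mul_cancel_right, act_mul, (show φ (a i) ((u : ↥W) : V) = _ from u.2)]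
    · intro p q e
      exact Subtype.ext (Subtype.ext ((φ s).injective (congrArg (fun t : Fs j => ((t : ↥W) : V)) e)))
  have hz4 : z * z * z = 1 := by rw [← hz3, pow_succ, pow_two]
  have hsz : ∀ i, s * a i * s⁻¹ = z ^ i * (s * r * s⁻¹) := fun i => by
    simp only [a]
    rw [show s * (z ^ i * r) * s⁻¹ = (s * z ^ i) * r * s⁻¹ by group, ((hzc s).pow_left i).eq.symm]
    group
  have hcard : Nat.card (Fs 0) = Nat.card (Fs 1) ∧ Nat.card (Fs 1) = Nat.card (Fs 2) := by
    have e0 : a 0 = r := by simp [a]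
    rcases hsr with h | h
    · have h01 := hmove 0 1 (by rw [hsz, h]; simp [a])
      have h12 := hmove 1 2 (by rw [hsz, h]; simp [a, pow_two, mul_assoc])
      have h20 := hmove 2 0 (by rw [hsz, h, e0, pow_two, ← mul_assoc, hz4, one_mul])
      omega
    · have h02 := hmove 0 2 (by rw [hsz, h]; simp [a, pow_two])
      have h10 := hmove 1 0 (by rw [hsz, h, e0, pow_one, ← mul_assoc, ← mul_assoc, hz4, one_mul])
      have h21 := hmove 2 1 (by
        rw [hsz, h, show a 1 = z * r by simp [a], pow_two,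
          show z * z * (z * z * r) = (z * z * z) * (z * r) by group, hz4, one_mul])
      omega
  have hprod : Nat.card (↥(Fs 0) × ↥(Fs 1) × ↥(Fs 2)) = Nat.card ↥W := by
    refine Nat.card_eq_of_bijective (fun p => ((p.1 : ↥W) * (p.2.1 : ↥W)) * (p.2.2 : ↥W)) ⟨?_, ?_⟩
    · have key : ∀ (u : ↥W), (φ r (φ r (u : V)) = φ z (u : V) ∧ φ r (u : V) = φ z (φ z (u : V))) ∨
          (φ r (φ r (u : V)) = φ z (φ z (u : V)) ∧ φ r (u : V) = φ z (u : V)) → tri φ r (u : V) = 1 := by
        intro u h
        have hu : (u : V) * φ z u * φ z (φ z u) = 1 := hW.1 u.2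
        rcases h with ⟨h1, h2'⟩ | ⟨h1, h2'⟩
        · rw [tri_apply, h1, h2', mul_right_comm, hu]
        · rw [tri_apply, h1, h2', hu]
      have k0 : ∀ u : Fs 0, tri φ r ((u : ↥W) : V) = u := fun u => tri_fixed φ h2 (by
        have := u.2; simpa [Fs, a] using this)
      have cm : ∀ u : V, φ r (φ z u) = φ z (φ r u) := fun u => by rw [← act_mul, ← act_mul, (hzc r).eq]
      have k1 : ∀ u : Fs 1, tri φ r ((u : ↥W) : V) = 1 := fun u => by
        have h : φ (a 1) ((u : ↥W) : V) = u := u.2
        simp only [a, pow_one, act_mul] at h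
        have h2' : φ r ((u : ↥W) : V) = φ z (φ z (u : ↥W)) := by
          conv_rhs => rw [← h, act_cube φ hz3]
        refine key _ (Or.inl ⟨?_, h2'⟩)
        rw [h2', cm, cm, h2']
        conv_lhs => rw [act_cube φ hz3]
      have k2 : ∀ u : Fs 2, tri φ r ((u : ↥W) : V) = 1 := fun u => by
        have h : φ (a 2) ((u : ↥W) : V) = u := u.2
        simp only [a, pow_two, act_mul] at h
        have h2' : φ r ((u : ↥W) : V) = φ z (u : ↥W) := by
          conv_rhs => rw [← h, act_cube φ hz3]
        refine key _ (Or.inr ⟨?_, h2'⟩)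
        rw [h2', cm, h2']
      rintro ⟨p0, p1, p2⟩ ⟨q0, q1, q2⟩ e
      have e' : ((p0 : ↥W) : V) * (p1 : ↥W) * (p2 : ↥W) = (q0 : ↥W) * (q1 : ↥W) * (q2 : ↥W) := congrArg Subtype.val e
      have e0 : ((p0 : ↥W) : V) = (q0 : ↥W) := by
        have := congrArg (tri φ r) e'
        rwa [map_mul, map_mul, map_mul, map_mul, k0, k0, k1, k1, k2, k2, mul_one, mul_one, mul_one, mul_one] at this
      have h12 : ((p1 : ↥W) : V) * (p2 : ↥W) = (q1 : ↥W) * (q2 : ↥W) := by
        rw [mul_assoc, mul_assoc, e0] at e'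
        exact mul_left_cancel e'
      -- both are fixed by `z r`, so the moved parts agree
      have hA : ∀ (u : Fs 2), φ (a 1) ((u : ↥W) : V) = φ z (φ z (u : ↥W)) := fun u => by
        have h : φ (a 2) ((u : ↥W) : V) = u := u.2
        simp only [a, pow_two, pow_one, act_mul] at h ⊢
        conv_rhs => rw [← h, act_cube φ hz3]
      have h12' := congrArg (φ (a 1)) h12
      simp only [map_mul (φ (a 1)), hA] at h12'
      rw [(show φ (a 1) ((p1 : ↥W) : V) = _ from p1.2), (show φ (a 1) ((q1 : ↥W) : V) = _ from q1.2)] at h12'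
      set d : V := ((p2 : ↥W) : V) * ((q2 : ↥W) : V) with hd
      have hd1 : ((p1 : ↥W) : V) * (q1 : ↥W) = d := by
        calc ((p1 : ↥W) : V) * (q1 : ↥W)
            = ((p1 : ↥W) : V) * (p2 : ↥W) * ((p2 : ↥W) * (q1 : ↥W)) := by
              rw [mul_assoc, ← mul_assoc ((p2 : ↥W) : V) (p2 : ↥W), h2, one_mul]
          _ = (q1 : ↥W) * (q2 : ↥W) * ((p2 : ↥W) * (q1 : ↥W)) := by rw [h12]
          _ = d * (((q1 : ↥W) : V) * (q1 : ↥W)) := by rw [hd]; ac_rfl
          _ = d := by rw [h2, mul_one]
      have hd2 : φ z (φ z d) = d := by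
        rw [hd, map_mul, map_mul]
        calc φ z (φ z ((p2 : ↥W) : V)) * φ z (φ z ((q2 : ↥W) : V))
            = ((p1 : ↥W) : V) * φ z (φ z ((p2 : ↥W) : V)) * (((p1 : ↥W) : V) * φ z (φ z ((q2 : ↥W) : V))) := by
              rw [mul_mul_mul_comm, h2, one_mul]
          _ = ((q1 : ↥W) : V) * φ z (φ z ((q2 : ↥W) : V)) * (((p1 : ↥W) : V) * φ z (φ z ((q2 : ↥W) : V))) := by
              rw [h12']
          _ = ((p1 : ↥W) : V) * (q1 : ↥W) := by
              rw [mul_mul_mul_comm, h2, mul_one, mul_comm]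
          _ = ((p2 : ↥W) : V) * (q2 : ↥W) := hd1
      have hdz : φ z d = d := by
        have := congrArg (φ z) hd2
        rw [act_cube φ hz3] at this
        exact this.symm
      have hdW : d ∈ W := mul_mem (p2 : ↥W).2 (q2 : ↥W).2
      have hd0 : d = 1 := (tri_fixed φ h2 hdz).symm.trans (hW.1 hdW)
      have e2 : ((p2 : ↥W) : V) = (q2 : ↥W) := by
        calc ((p2 : ↥W) : V) = d * (q2 : ↥W) := by rw [hd, mul_assoc, h2, mul_one]
          _ = _ := by rw [hd0, one_mul]
      rw [e2] at h12
      exact Prod.ext (Subtype.ext (Subtype.ext e0)) (Prod.ext (Subtype.ext (Subtype.ext (mul_right_cancel h12)))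
        (Subtype.ext (Subtype.ext e2)))
    · intro u
      have ha3 : ∀ i, a i ^ 3 = 1 := fun i => by
        simp only [a]
        rw [((hzc r).pow_left i).mul_pow, hr3, ← pow_mul, mul_comm i 3, pow_mul, hz3, one_pow, one_mul]
      have hmem : ∀ i, tri φ (a i) (u : V) ∈ W := fun i => by
        exact mul_mem (mul_mem u.2 (hinvW _ u.2)) (hinvW _ (hinvW _ u.2))
      refine ⟨⟨⟨⟨_, hmem 0⟩, act_tri φ (ha3 0) _⟩, ⟨⟨_, hmem 1⟩, act_tri φ (ha3 1) _⟩,
        ⟨⟨_, hmem 2⟩, act_tri φ (ha3 2) _⟩⟩, Subtype.ext ?_⟩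
      show tri φ (a 0) (u : V) * tri φ (a 1) (u : V) * tri φ (a 2) (u : V) = u
      have hN : ∀ m : M, φ m (u : V) * φ (z * m) (u : V) * φ (z * z * m) (u : V) = 1 := fun m => by
        rw [act_mul, act_mul, act_mul]
        exact hW.1 (hinvW m u.2)
      simp only [tri_apply, ← act_mul, a, pow_zero, one_mul, pow_one, pow_two]
      have e1 : z * r * (z * r) = z * z * (r * r) := by
        rw [mul_assoc z r, ← mul_assoc r z, ← (hzc r).eq]; group
      have e2 : z * z * r * (z * z * r) = z * (r * r) := by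
        rw [show z * z * r * (z * z * r) = z * z * (r * (z * z)) * r by group,
          ← ((hzc r).mul_left (hzc r)).eq, show z * z * (z * z * r) * r = (z * z * z) * (z * (r * r)) by group,
          hz4, one_mul]
      rw [e1, e2]
      calc _ = ((u : V) * u) * u * (φ r (u : V) * φ (z * r) (u : V) * φ (z * z * r) (u : V)) *
            (φ (r * r) (u : V) * φ (z * (r * r)) (u : V) * φ (z * z * (r * r)) (u : V)) := by ac_rfl
        _ = u := by rw [hN, hN, h2, one_mul, mul_one, mul_one]
  obtain ⟨f, hf⟩ := card_two_pow (A := ↥(Fs 0)) fun p => Subtype.ext (Subtype.ext (h2 _))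
  rw [Nat.card_prod, Nat.card_prod, ← hcard.2, ← hcard.1, hf, hw, ← pow_add, ← pow_add] at hprod
  have h3f := Nat.pow_right_injective le_rfl hprod
  have hz00 : z0 = 0 := by omega
  have hbot : Z0 = ⊥ := Subgroup.card_eq_one.1 (by rw [hz0, hz00, pow_zero])
  exact Subgroup.mem_bot.1 (hbot ▸ (show v ∈ Z0 from hv))

end CfsgLib.JankoFourBridge
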