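import Cfsg.Agent.Lib.JankoFourBridge.OuterThree
import Cfsg.Agent.Lib.JankoFourBridge.Fpf
import Cfsg.Agent.Lib.JankoFour.Setting
import Cfsg.Agent.Lib.JankoFourTwo.Setting
import Cfsg.Agent.Lib.ThreeTrans.LargeExtra
import Cfsg.Agent.Lib.HallGen.Basic

/-!
# From the centralizer hypotheses of the order theorem to the Janko-four type (owner: helper28)

`janko_type_of_centralizer`: an involution whose centralizer has an extraspecial normal subgroup of order
`2 ^ 13`, a perfect triple cover of M22 modulo it, of index two and with no further centralizing element, is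
of Janko-four type.
-/

set_option autoImplicit false
set_option linter.unusedSectionVars false

namespace CfsgLib.JankoFourBridge

open Cfsg
open scoped commutatorElement

theorem mul_cube {A : Type*} [Group A] {x y c : A} (h : y * x = c * (x * y)) (hc : ∀ a, Commute c a)
    (hc3 : c ^ 3 = 1) : (x * y) ^ 3 = x ^ 3 * y ^ 3 := by
  have hL : ∀ w, y * (c * w) = c * (y * w) := fun w => by rw [← mul_assoc, ← (hc y).eq, mul_assoc]
  have hLx : ∀ w, x * (c * w) = c * (x * w) := fun w => by rw [← mul_assoc, ← (hc x).eq, mul_assoc]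
  have hs : ∀ w, y * (x * w) = c * (x * (y * w)) := fun w => by rw [← mul_assoc, h]; simp only [mul_assoc]
  have h3 : c * c * c = 1 := by rw [← pow_two, ← pow_succ]; exact hc3
  simp only [pow_succ, pow_zero, one_mul, mul_assoc, hs, hL, hLx, h]
  rw [← mul_assoc c c, ← mul_assoc, h3, one_mul]

/-- Conjugates under the two products give the inverse commutator. -/
theorem commutator_twist {A : Type*} [Group A] {R S a b : A} (ha : ∀ x, Commute a x) (hb : ∀ x, Commute b x)
    (hc : ∀ x, Commute (R * S * R⁻¹ * S⁻¹) x) :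
    (R * S * a) * (R * R * S * b) * (R * S * a)⁻¹ * (R * R * S * b)⁻¹ = (R * S * R⁻¹ * S⁻¹)⁻¹ := by
  have h1 : (R * S * a) * (R * R * S * b) * (R * S * a)⁻¹ * (R * R * S * b)⁻¹ =
      (R * S) * (R * R * S) * (R * S)⁻¹ * (R * R * S)⁻¹ := by
    have hka : ∀ u v : A, u * a * v * (u * a)⁻¹ = u * v * u⁻¹ := fun u v => by
      rw [mul_inv_rev, mul_assoc u a v, (ha v).eq]; group
    rw [hka, show R * S * (R * R * S * b) * (R * S)⁻¹ * (R * R * S * b)⁻¹ =
      R * S * (R * R * S) * (b * (R * S)⁻¹) * b⁻¹ * (R * R * S)⁻¹ by group, (hb _).eq]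
    group
  rw [h1]
  obtain ⟨c, hcdef⟩ : ∃ c, c = R * S * R⁻¹ * S⁻¹ := ⟨_, rfl⟩
  rw [← hcdef] at hc ⊢
  have hs : S * R = c⁻¹ * (R * S) := by rw [hcdef]; group
  calc R * S * (R * R * S) * (R * S)⁻¹ * (R * R * S)⁻¹
      = R * (S * R) * (R * S) * (R * R * (S * R) * S)⁻¹ := by group
    _ = (R * c⁻¹) * (R * S) * (R * S) * ((R * R * c⁻¹) * (R * S) * S)⁻¹ := by rw [hs]; group
    _ = c⁻¹ * (R * R * S * R * S) * (c⁻¹ * (R * R * R * S * S))⁻¹ := by
        rw [← ((hc R).inv_left).eq, ← ((hc (R * R)).inv_left).eq]; group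
    _ = c⁻¹ * (R * R * (S * R) * S) * (R * R * R * S * S)⁻¹ * c := by group
    _ = c⁻¹ * ((R * R * c⁻¹) * (R * S) * S) * (R * R * R * S * S)⁻¹ * c := by rw [hs]; group
    _ = c⁻¹ * (c⁻¹ * (R * R * R * S * S)) * (R * R * R * S * S)⁻¹ * c := by
        rw [← ((hc (R * R)).inv_left).eq]; group
    _ = c⁻¹ := by group

theorem pow_three_eq {A : Type*} [Group A] (a : A) : a ^ 3 = a * a * a := by rw [pow_succ, pow_two]

/-- The action of the centralizer on the Mathieu quotient is the whole automorphism group. -/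
theorem exists_action {C : Type*} [Group C] [Finite C] (N M : Subgroup C) [N.Normal] [M.Normal] (hNM : N ≤ M)
    (hM : M.index = 2) (e : ↥M ⧸ N.subgroupOf M ≃* ↥Spor.M22)
    (hout : ∀ c : C, (∀ m ∈ M, c * m * c⁻¹ * m⁻¹ ∈ N) → c ∈ M) (hMcard : Nat.card M = Nat.card N * 443520) :
    ∃ Ω : C ⧸ N ≃* MulAut ↥Spor.M22, ∀ (c : C) (m : ↥M),
      Ω (QuotientGroup.mk' N c) (e (QuotientGroup.mk' (N.subgroupOf M) m)) =
        e (QuotientGroup.mk' (N.subgroupOf M) (MulAut.conjNormal c m)) := by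
  classical
  let θ : ↥M →* ↥Spor.M22 := e.toMonoidHom.comp (QuotientGroup.mk' (N.subgroupOf M))
  have hθs : Function.Surjective θ := e.surjective.comp (QuotientGroup.mk'_surjective _)
  have hθ : ∀ m : ↥M, θ m = 1 ↔ (m : C) ∈ N := fun m => by
    show e (QuotientGroup.mk' _ m) = 1 ↔ _
    rw [MulEquiv.map_eq_one_iff, QuotientGroup.mk'_apply, QuotientGroup.eq_one_iff, Subgroup.mem_subgroupOf]
  -- the action on the quotient
  haveI : (M.map (QuotientGroup.mk' N)).Normal :=
    Subgroup.Normal.map inferInstance _ (QuotientGroup.mk'_surjective _)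
  let f : ↥M →* C ⧸ N := (QuotientGroup.mk' N).comp M.subtype
  have hfk : N.subgroupOf M = f.ker := by rw [← MonoidHom.comap_ker, QuotientGroup.ker_mk']; rfl
  have hfr : f.range = M.map (QuotientGroup.mk' N) := by rw [MonoidHom.range_comp, Subgroup.range_subtype]
  let θ' : ↥(M.map (QuotientGroup.mk' N)) ≃* ↥Spor.M22 :=
    (((MulEquiv.subgroupCongr hfr).symm.trans (QuotientGroup.quotientKerEquivRange f).symm).trans
      (QuotientGroup.quotientMulEquivOfEq hfk.symm)).trans e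
  have hθ' : ∀ m : ↥M, θ' ⟨QuotientGroup.mk' N m, Subgroup.mem_map_of_mem _ m.2⟩ = θ m := by
    intro m
    show e _ = e _
    refine congrArg e ?_
    have h : (QuotientGroup.quotientKerEquivRange f).symm ⟨f m, ⟨m, rfl⟩⟩ = QuotientGroup.mk m := by
      rw [MulEquiv.symm_apply_eq]; rfl
    exact congrArg (QuotientGroup.quotientMulEquivOfEq hfk.symm) h
  let ω : C ⧸ N →* MulAut ↥Spor.M22 := (MulAut.congr θ').toMonoidHom.comp MulAut.conjNormal
  have hω : ∀ (c : C) (m : ↥M), ω (QuotientGroup.mk' N c) (θ m) = θ (MulAut.conjNormal c m) := by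
    intro c m
    rw [← hθ', ← hθ']
    show θ' (MulAut.conjNormal _ (θ'.symm (θ' _))) = θ' _
    rw [MulEquiv.symm_apply_apply]
    refine congrArg θ' (Subtype.ext ?_)
    rw [MulAut.conjNormal_apply]
    show _ = QuotientGroup.mk' N ((MulAut.conjNormal c m : ↥M) : C)
    rw [MulAut.conjNormal_apply, map_mul, map_mul, map_inv]
  have hωi : Function.Injective ω := (injective_iff_map_eq_one _).2 fun y hy => by
    obtain ⟨c, rfl⟩ := QuotientGroup.mk'_surjective N y
    have hall : ∀ m : ↥M, θ (MulAut.conjNormal c m) = θ m := fun m => by rw [← hω, hy]; rfl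
    have hcM : c ∈ M := hout c fun m hm => by
      have h1 := hall ⟨m, hm⟩
      rw [← mul_inv_eq_one, ← map_inv, ← map_mul, hθ] at h1
      simpa [MulAut.conjNormal_apply] using h1
    have hc1 : θ ⟨c, hcM⟩ = 1 := by
      have hcc : θ ⟨c, hcM⟩ ∈ Subgroup.center ↥Spor.M22 := Subgroup.mem_center_iff.2 fun y => by
        obtain ⟨m, rfl⟩ := hθs y
        have h1 := hall m
        rw [show MulAut.conjNormal c m = (⟨c, hcM⟩ : ↥M) * m * (⟨c, hcM⟩ : ↥M)⁻¹ from
          Subtype.ext (MulAut.conjNormal_apply _ _), map_mul, map_mul, map_inv, mul_inv_eq_iff_eq_mul] at h1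
        exact h1.symm
      rw [show Subgroup.center ↥Spor.M22 = ⊥ from CfsgLib.JankoFour.center_grp] at hcc
      exact Subgroup.mem_bot.1 hcc
    exact (QuotientGroup.eq_one_iff c).2 ((hθ _).1 hc1)
  haveI : Finite (MulAut ↥Spor.M22) := Nat.finite_of_card_ne_zero (by
    rw [CfsgLib.JankoFourTwo.Setting.card_aut.1]; norm_num)
  have hωs : Function.Surjective ω := ((Nat.bijective_iff_injective_and_card _).2 ⟨hωi, by
    rw [CfsgLib.JankoFourTwo.Setting.card_aut.1, ← Subgroup.index_eq_card]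
    have h1 := N.card_mul_index
    rw [← M.card_mul_index, hM, hMcard, mul_assoc] at h1
    exact Nat.eq_of_mul_eq_mul_left Nat.card_pos h1⟩).2
  exact ⟨MulEquiv.ofBijective ω ⟨hωi, hωs⟩, hω⟩

/-- The centralizer hypotheses give the Janko-four type. -/
theorem janko_type_of_centralizer {G : Type*} [Group G] [Finite G] (t : G) (ht : orderOf t = 2)
    (Q N M : Subgroup (Subgroup.centralizer ({t} : Set G))) [Q.Normal] [N.Normal] [M.Normal] (hQN : Q ≤ N)
    (hNM : N ≤ M) (hM : M.index = 2) (hQ : Cfsg.IsExtraspecial 2 Q) (hcard : Nat.card Q = 2 ^ 13)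
    (hN : Nat.card N = 3 * Nat.card Q) (hcent : ⁅M, N⁆ ≤ Q) (hperf : M ≤ ⁅M, M⁆ ⊔ Q)
    (h2c : Subgroup.centralizer (Q : Set (Subgroup.centralizer ({t} : Set G))) ≤ Q)
    (hout : ∀ c : Subgroup.centralizer ({t} : Set G), (∀ m ∈ M, c * m * c⁻¹ * m⁻¹ ∈ N) → c ∈ M)
    (hM22 : Cfsg.Spor.IsoM22 (M ⧸ N.subgroupOf M)) :
    IsOfJankoFourTypeAt t ∧ ¬ IsMulCommutative G := by
  classical
  haveI : Fact (Nat.Prime 2) := ⟨Nat.prime_two⟩
  haveI : Fact (Nat.Prime 3) := ⟨Nat.prime_three⟩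
  haveI : Fact (Nat.Prime 11) := ⟨by norm_num⟩
  haveI := CfsgLib.Sporadic.sporM22_isSimple
  obtain ⟨e⟩ := hM22
  -- the central involution
  let tC : ↥(Subgroup.centralizer ({t} : Set G)) := ⟨t, Subgroup.mem_centralizer_singleton_iff.2 rfl⟩
  have htc : ∀ c : ↥(Subgroup.centralizer ({t} : Set G)), Commute tC c := fun c => Subtype.ext (Subgroup.mem_centralizer_singleton_iff.1 c.2).symm
  have htQ : tC ∈ Q := h2c (Subgroup.mem_centralizer_iff.2 fun q _ => ((htc q).eq).symm)
  have ht2 : orderOf tC = 2 := (Subgroup.orderOf_coe tC).symm.trans ht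
  set K : Subgroup ↥(Subgroup.centralizer ({t} : Set G)) := Subgroup.zpowers tC with hK
  have hKc : ∀ k ∈ K, ∀ c : ↥(Subgroup.centralizer ({t} : Set G)), Commute k c := fun k hk c => by
    obtain ⟨i, rfl⟩ := hk; exact (htc c).zpow_left i
  haveI hKn : K.Normal := ⟨fun k hk c => by rw [← (hKc k hk c).eq, mul_inv_cancel_right]; exact hk⟩
  have hKQ : K ≤ Q := Subgroup.zpowers_le.2 htQ
  have hcenter : ∀ q : ↥Q, q ∈ Subgroup.center ↥Q ↔ (q : ↥(Subgroup.centralizer ({t} : Set G))) ∈ K := by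
    have hsub : K.subgroupOf Q ≤ Subgroup.center ↥Q := fun q hq =>
      Subgroup.mem_center_iff.2 fun g => Subtype.ext ((hKc _ hq (g : ↥(Subgroup.centralizer ({t} : Set G)))).eq).symm
    have heq : K.subgroupOf Q = Subgroup.center ↥Q := Subgroup.eq_of_le_of_card_ge hsub (by
      rw [hQ.2, Nat.card_congr (Subgroup.subgroupOfEquivOfLe hKQ).toEquiv, hK, Nat.card_zpowers, ht2])
    intro q
    rw [← heq, Subgroup.mem_subgroupOf]
  have hK2 : ∀ k ∈ K, k * k = 1 := fun k hk => by
    obtain ⟨i, rfl⟩ := hk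
    show tC ^ i * tC ^ i = 1
    rw [← zpow_add, ← two_mul, zpow_mul, zpow_two,
      show tC * tC = 1 by rw [← pow_two, ← ht2, pow_orderOf_eq_one], one_zpow]
  -- orders
  let θ : ↥M →* ↥Spor.M22 := e.toMonoidHom.comp (QuotientGroup.mk' (N.subgroupOf M))
  have hθs : Function.Surjective θ := e.surjective.comp (QuotientGroup.mk'_surjective _)
  have hθ : ∀ m : ↥M, θ m = 1 ↔ (m : ↥(Subgroup.centralizer ({t} : Set G))) ∈ N := fun m => by
    show e (QuotientGroup.mk' _ m) = 1 ↔ _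
    rw [MulEquiv.map_eq_one_iff, QuotientGroup.mk'_apply, QuotientGroup.eq_one_iff, Subgroup.mem_subgroupOf]
  have hMcard : Nat.card M = Nat.card N * 443520 := by
    rw [← (N.subgroupOf M).card_mul_index, Nat.card_congr (Subgroup.subgroupOfEquivOfLe hNM).toEquiv,
      Subgroup.index_eq_card, Nat.card_congr e.toEquiv, CfsgLib.Sporadic.card_sporM22]
  -- the triple cover
  haveI : (Q.subgroupOf M).Normal := Subgroup.normal_subgroupOf
  let M2 := ↥M ⧸ Q.subgroupOf M
  let μ : ↥M →* M2 := QuotientGroup.mk' _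
  have hμs : Function.Surjective μ := QuotientGroup.mk'_surjective _
  have hμ : ∀ m : ↥M, μ m = 1 ↔ (m : ↥(Subgroup.centralizer ({t} : Set G))) ∈ Q := fun m => by
    show QuotientGroup.mk' _ m = 1 ↔ _
    rw [QuotientGroup.mk'_apply, QuotientGroup.eq_one_iff, Subgroup.mem_subgroupOf]
  have hM2card : Nat.card M2 = 3 * 443520 := by
    have h := (Q.subgroupOf M).card_mul_index
    rw [Subgroup.index_eq_card, Nat.card_congr (Subgroup.subgroupOfEquivOfLe (hQN.trans hNM)).toEquiv, hMcard,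
      hN, mul_comm 3, mul_assoc] at h
    exact Nat.eq_of_mul_eq_mul_left Nat.card_pos h
  have hμθ : ∀ {a b : ↥M}, μ a = μ b → θ a = θ b := fun {a b} h => by
    rw [← inv_mul_eq_one, ← map_inv, ← map_mul, hθ]
    refine hQN ((hμ _).1 ?_)
    rw [map_mul, map_inv, h, inv_mul_cancel]
  -- the element of order three
  obtain ⟨p, hp⟩ := exists_prime_orderOf_dvd_card' (G := ↥N) 3 (by rw [hN]; exact dvd_mul_right 3 _)
  have hp3 : (p : ↥(Subgroup.centralizer ({t} : Set G))) ^ 3 = 1 := by rw [← SubmonoidClass.coe_pow, ← hp, pow_orderOf_eq_one]; rfl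
  have hpQ : (p : ↥(Subgroup.centralizer ({t} : Set G))) ∉ Q := fun h => by
    have h1 : orderOf (⟨(p : ↥(Subgroup.centralizer ({t} : Set G))), h⟩ : ↥Q) = 3 :=
      (Subgroup.orderOf_coe _).symm.trans ((Subgroup.orderOf_coe p).trans hp)
    have h2 := orderOf_dvd_natCard (⟨(p : ↥(Subgroup.centralizer ({t} : Set G))), h⟩ : ↥Q)
    rw [h1, hcard] at h2
    norm_num at h2
  let z : M2 := μ ⟨p, hNM p.2⟩
  have hz3 : z ^ 3 = 1 := by
    show μ _ ^ 3 = 1
    rw [← map_pow, hμ]
    show (p : ↥(Subgroup.centralizer ({t} : Set G))) ^ 3 ∈ Q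
    rw [hp3]; exact one_mem Q
  have hz1 : z ≠ 1 := fun h => hpQ ((hμ _).1 h)
  have hzc : ∀ m : M2, Commute z m := fun m => by
    obtain ⟨m, rfl⟩ := hμs m
    refine Commute.symm (mul_inv_eq_iff_eq_mul.1 (mul_inv_eq_one.1 ?_))
    show μ m * μ _ * (μ m)⁻¹ * (μ _)⁻¹ = 1
    rw [← map_inv, ← map_inv, ← map_mul, ← map_mul, ← map_mul, hμ]
    exact hcent (Subgroup.commutator_mem_commutator m.2 p.2)
  -- the kernel over M22
  have hker : ∀ m : ↥M, θ m = 1 → μ m ∈ Subgroup.zpowers z := by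
    intro m hm
    have hle : Subgroup.zpowers z ≤ (N.subgroupOf M).map μ :=
      Subgroup.zpowers_le.2 ⟨⟨p, hNM p.2⟩, Subgroup.mem_subgroupOf.2 p.2, rfl⟩
    have hcZ : Nat.card ↥((N.subgroupOf M).map μ) = 3 := by
      let ν : ↥(N.subgroupOf M) →* M2 := μ.comp (N.subgroupOf M).subtype
      have h := ν.ker.card_mul_index
      rw [Subgroup.index_ker, show ν.range = (N.subgroupOf M).map μ by
        rw [MonoidHom.range_comp, Subgroup.range_subtype],
        Nat.card_congr (Subgroup.subgroupOfEquivOfLe hNM).toEquiv, hN,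
        show Nat.card ν.ker = Nat.card Q from ?_, mul_comm 3] at h
      · exact Nat.eq_of_mul_eq_mul_left Nat.card_pos h
      · exact Nat.card_congr
          { toFun := fun x => ⟨((x.1 : ↥M) : ↥(Subgroup.centralizer ({t} : Set G))), (hμ _).1 x.2⟩
            invFun := fun q => ⟨⟨⟨q, hNM (hQN q.2)⟩, Subgroup.mem_subgroupOf.2 (hQN q.2)⟩, (hμ _).2 q.2⟩
            left_inv := fun _ => rfl
            right_inv := fun _ => rfl }
    rw [Subgroup.eq_of_le_of_card_ge hle (by rw [hcZ, Nat.card_zpowers, orderOf_eq_prime hz3 hz1])]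
    exact Subgroup.mem_map_of_mem μ (Subgroup.mem_subgroupOf.2 ((hθ m).1 hm))
  have hZc : ∀ a ∈ Subgroup.zpowers z, ∀ m, Commute a m := fun a ha m => by
    obtain ⟨i, rfl⟩ := ha; exact (hzc m).zpow_left i
  have hZ3 : ∀ a ∈ Subgroup.zpowers z, a ^ 3 = 1 := fun a ha => by
    obtain ⟨i, rfl⟩ := ha
    show (z ^ i) ^ 3 = 1
    rw [← zpow_natCast, zpow_comm, zpow_natCast, hz3, one_zpow]
  -- perfectness
  have hperf2 : commutator M2 = ⊤ := by
    refine (Subgroup.eq_top_iff' _).2 fun x => ?_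
    obtain ⟨m, rfl⟩ := hμs x
    obtain ⟨d, hd, q, hq, hdq⟩ := Subgroup.mem_sup_of_normal_right.1 (hperf m.2)
    have hdM : d ∈ M := (Subgroup.commutator_le_right M M) hd
    have hq' : q ∈ M := hNM (hQN hq)
    rw [show m = ⟨d, hdM⟩ * ⟨q, hq'⟩ from Subtype.ext hdq.symm, map_mul, (hμ ⟨q, hq'⟩).2 hq, mul_one]
    rw [show ⁅M, M⁆ = (commutator ↥M).map M.subtype by rw [← Subgroup.map_subtype_commutator]] at hd
    obtain ⟨d', hd', e'⟩ := hd
    rw [show (⟨d, hdM⟩ : ↥M) = d' from Subtype.ext e'.symm]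
    refine ((Subgroup.map_commutator ⊤ ⊤ μ).le.trans ?_) (Subgroup.mem_map_of_mem μ hd')
    exact Subgroup.commutator_mono le_top le_top
  -- generators of a Sylow three subgroup
  obtain ⟨α, r, s, hr3, hs3, hrs, hind, hαr, hαs⟩ := exists_auto
  obtain ⟨r0, hr0⟩ := hθs r
  obtain ⟨s0, hs0⟩ := hθs s
  set R := μ r0 with hR
  set S := μ s0 with hS
  set c0 := R * S * R⁻¹ * S⁻¹ with hc0
  have hc0Z : c0 ∈ Subgroup.zpowers z := by
    rw [hc0, hR, hS, ← map_inv, ← map_inv, ← map_mul, ← map_mul, ← map_mul]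
    refine hker _ ?_
    rw [map_mul, map_mul, map_mul, map_inv, map_inv, hr0, hs0, hrs.eq, mul_inv_cancel_right, mul_inv_cancel]
  have hRc : R ^ 3 ∈ Subgroup.zpowers z := by
    rw [hR, ← map_pow]; exact hker _ (by rw [map_pow, hr0, hr3])
  have hSc : S ^ 3 ∈ Subgroup.zpowers z := by
    rw [hS, ← map_pow]; exact hker _ (by rw [map_pow, hs0, hs3])
  have hnab : c0 ≠ 1 := by
    intro h
    have hRS : Commute R S := mul_inv_eq_iff_eq_mul.1 (mul_inv_eq_one.1 h)
    set A := Subgroup.closure ({z, R, S} : Set M2) with hA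
    haveI hAc : IsMulCommutative ↥A := Subgroup.isMulCommutative_closure (by
      rintro a ha b hb
      simp only [Set.mem_insert_iff, Set.mem_singleton_iff] at ha hb
      rcases ha with rfl | rfl | rfl <;> rcases hb with rfl | rfl | rfl <;>
        first | rfl | exact (hzc _).eq | exact (hzc _).symm.eq | exact hRS.eq | exact hRS.symm.eq)
    letI : CommGroup ↥A := { mul_comm := fun a b => hAc.1.1 a b }
    have hzA : Subgroup.zpowers z ≤ A := Subgroup.zpowers_le.2 (Subgroup.subset_closure (by simp))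
    have hRA : R ∈ A := Subgroup.subset_closure (by simp)
    have hSA : S ∈ A := Subgroup.subset_closure (by simp)
    have hexp : ∀ a : ↥A, a ^ 9 = 1 := by
      have hle : A ≤ ((powMonoidHom 9 : ↥A →* ↥A).ker.map A.subtype) := by
        refine (Subgroup.closure_le _).2 ?_
        have h9 : ∀ u, u ^ 3 ∈ Subgroup.zpowers z → u ^ 9 = 1 := fun u hu => by
          rw [show (9 : ℕ) = 3 * 3 from rfl, pow_mul, hZ3 _ hu]
        rintro a ha
        have haA : a ∈ A := Subgroup.subset_closure ha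
        refine ⟨⟨a, haA⟩, MonoidHom.mem_ker.2 (Subtype.ext ?_), rfl⟩
        show a ^ 9 = 1
        simp only [Set.mem_insert_iff, Set.mem_singleton_iff] at ha
        rcases ha with rfl | rfl | rfl
        · exact h9 _ (by rw [hz3]; exact one_mem _)
        · exact h9 _ hRc
        · exact h9 _ hSc
      intro a
      obtain ⟨b, hb, e'⟩ := hle a.2
      rw [← (Subtype.ext e' : b = a)]
      exact MonoidHom.mem_ker.1 hb
    obtain ⟨n, hn⟩ := IsPGroup.iff_card.1 (fun a => ⟨2, hexp a⟩ : IsPGroup 3 ↥A)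
    -- at least 27 elements
    have h27 : 27 ≤ Nat.card ↥A := by
      let g : Fin 3 × Fin 3 × Fin 3 → ↥A := fun x =>
        ⟨z ^ (x.1 : ℕ) * (R ^ (x.2.1 : ℕ) * S ^ (x.2.2 : ℕ)),
          mul_mem (hzA (Subgroup.npow_mem_zpowers z _)) (mul_mem (pow_mem hRA _) (pow_mem hSA _))⟩
      have hg : Function.Injective g := by
        rintro ⟨i, j, k⟩ ⟨i', j', k'⟩ e'
        have e'' : z ^ (i : ℕ) * (R ^ (j : ℕ) * S ^ (k : ℕ)) = z ^ (i' : ℕ) * (R ^ (j' : ℕ) * S ^ (k' : ℕ)) :=
          congrArg Subtype.val e'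
        have hθ' : r ^ (j : ℕ) * s ^ (k : ℕ) = r ^ (j' : ℕ) * s ^ (k' : ℕ) := by
          have h' : μ (⟨p, hNM p.2⟩ ^ (i : ℕ) * (r0 ^ (j : ℕ) * s0 ^ (k : ℕ))) =
              μ (⟨p, hNM p.2⟩ ^ (i' : ℕ) * (r0 ^ (j' : ℕ) * s0 ^ (k' : ℕ))) := by
            simp only [map_mul, map_pow]; exact e''
          have h'' := hμθ h'
          simp only [map_mul, map_pow, (hθ ⟨p, hNM p.2⟩).2 p.2, one_pow, one_mul, hr0, hs0] at h''
          exact h''
        have hjk : j = j' ∧ k = k' := by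
          have red : ∀ m : ℕ, ∀ u : ↥Spor.M22, u ^ 3 = 1 → u ^ m = u ^ (m % 3) := fun m u hu =>
            pow_eq_pow_mod m hu
          have h0 : r ^ (((j : ℕ) + 2 * (j' : ℕ)) % 3) * s ^ (((k : ℕ) + 2 * (k' : ℕ)) % 3) = 1 := by
            rw [← red _ r hr3, ← red _ s hs3, pow_add, pow_add,
              Commute.mul_mul_mul_comm (hrs.pow_pow (2 * (j' : ℕ)) (k : ℕ)), hθ',
              ← Commute.mul_mul_mul_comm (hrs.pow_pow (2 * (j' : ℕ)) (k' : ℕ)), ← pow_add, ← pow_add,
              show (j' : ℕ) + 2 * j' = 3 * j' by ring, show (k' : ℕ) + 2 * k' = 3 * k' by ring,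
              pow_mul, pow_mul, hr3, hs3, one_pow, one_pow, one_mul]
          obtain ⟨h1, h2⟩ := hind _ _ (Nat.mod_lt _ (by norm_num)) (Nat.mod_lt _ (by norm_num)) h0
          omega
        obtain ⟨rfl, rfl⟩ := hjk
        have hi : z ^ (i : ℕ) = z ^ (i' : ℕ) := mul_right_cancel e''
        have := pow_injOn_Iio_orderOf (x := z) (by rw [orderOf_eq_prime hz3 hz1]; exact i.2)
          (by rw [orderOf_eq_prime hz3 hz1]; exact i'.2) hi
        exact Prod.ext (Fin.ext this) rfl
      have := Nat.card_le_card_of_injective g hg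
      simpa using this
    have hidx : ¬ 3 ∣ A.index := by
      intro hd
      have h1 := A.card_mul_index
      rw [hn, hM2card] at h1
      rw [hn] at h27
      have hn3 : 3 ≤ n := by
        by_contra hlt
        have : 3 ^ n ≤ 3 ^ 2 := Nat.pow_le_pow_right (by norm_num) (by omega)
        omega
      have h81 : 81 ∣ 3 * 443520 := by
        rw [← h1]
        exact (Nat.mul_dvd_mul (pow_dvd_pow 3 hn3) hd)
      norm_num at h81
    have htr := MonoidHom.transfer_eq_pow (MonoidHom.id ↥A) (H := A) z (fun k g0 _ => by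
      rw [mul_assoc, ((hzc g0).pow_left k).eq, inv_mul_cancel_left])
    have h1 : MonoidHom.transfer (MonoidHom.id ↥A) z = 1 := by
      refine MonoidHom.mem_ker.1 ((Abelianization.commutator_subset_ker _ : commutator M2 ≤ _) ?_)
      rw [hperf2]; exact Subgroup.mem_top _
    rw [h1] at htr
    have h2 : z ^ A.index = 1 := (congrArg Subtype.val htr).symm
    exact hidx (orderOf_eq_prime hz3 hz1 ▸ orderOf_dvd_of_pow_eq_one h2)
  -- an element of order three moved by a conjugate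
  obtain ⟨r', s', hr', hsr'⟩ : ∃ r' s' : M2, r' ^ 3 = 1 ∧
      (s' * r' * s'⁻¹ = z * r' ∨ s' * r' * s'⁻¹ = z * z * r') := by
    have hcz : ∀ a ∈ Subgroup.zpowers z, a ≠ 1 → a = z ∨ a = z * z := fun a ha ha1 => by
      obtain ⟨i, hi⟩ := mem_powers_iff_mem_zpowers.2 ha
      have hi' : z ^ (i % 3) = a := (pow_eq_pow_mod i hz3).symm.trans hi
      have : i % 3 < 3 := Nat.mod_lt _ (by norm_num)
      interval_cases h : i % 3
      · exact absurd (by rw [← hi', pow_zero]) ha1
      · exact Or.inl (by rw [← hi', pow_one])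
      · exact Or.inr (by rw [← hi', pow_two])
    have conjc : ∀ u v : M2, u * v * u⁻¹ = (u * v * u⁻¹ * v⁻¹) * v := fun u v => by group
    by_cases hR3 : R ^ 3 = 1
    · refine ⟨R, S, hR3, ?_⟩
      have hne : S * R * S⁻¹ * R⁻¹ ≠ 1 := fun h => hnab (by
        rw [hc0, show R * S * R⁻¹ * S⁻¹ = (S * R * S⁻¹ * R⁻¹)⁻¹ by group, h, inv_one])
      rcases hcz _ (by rw [show S * R * S⁻¹ * R⁻¹ = c0⁻¹ by rw [hc0]; group]; exact inv_mem hc0Z) hne with h | h
      · exact Or.inl (by rw [conjc, h])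
      · exact Or.inr (by rw [conjc, h])
    · have hgen : ∀ a ∈ Subgroup.zpowers z, ∃ k : ℕ, (R ^ 3) ^ k = a := by
        have heq : Subgroup.zpowers (R ^ 3) = Subgroup.zpowers z :=
          Subgroup.eq_of_le_of_card_ge (Subgroup.zpowers_le.2 hRc) (by
            rw [Nat.card_zpowers, Nat.card_zpowers, orderOf_eq_prime hz3 hz1,
              orderOf_eq_prime (hZ3 _ hRc) hR3])
        intro a ha
        obtain ⟨k, hk⟩ := mem_powers_iff_mem_zpowers.2 (heq.symm ▸ ha)
        exact ⟨k, hk⟩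
      obtain ⟨k, hk⟩ := hgen _ (inv_mem hSc)
      obtain ⟨d, hd, hdZ⟩ : ∃ d, R ^ k * S = d * (S * R ^ k) ∧ d ∈ Subgroup.zpowers z := by
        refine ⟨R ^ k * S * (S * R ^ k)⁻¹, by group, ?_⟩
        rw [hR, hS, ← map_pow, ← map_mul, ← map_mul, ← map_inv, ← map_mul]
        refine hker _ ?_
        rw [map_mul, map_inv, map_mul, map_mul, map_pow, hr0, hs0, (hrs.pow_left k).eq, mul_inv_cancel]
      refine ⟨S * R ^ k, R, ?_, ?_⟩
      · rw [mul_cube hd (hZc d hdZ) (hZ3 d hdZ), ← pow_mul R, mul_comm k 3, pow_mul, hk, mul_inv_cancel]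
      · have hc' : R * (S * R ^ k) * R⁻¹ * (S * R ^ k)⁻¹ = c0 := by rw [hc0]; group
        rcases hcz _ hc0Z hnab with h | h
        · exact Or.inl (by rw [conjc, hc', h])
        · exact Or.inr (by rw [conjc, hc', h])
  -- the module
  set V := Q.map (QuotientGroup.mk' K) with hV
  haveI hVn : V.Normal := Subgroup.Normal.map inferInstance _ (QuotientGroup.mk'_surjective _)
  have hsq : ∀ v : ↥V, v * v = 1 := by
    rintro ⟨v, q, hq, rfl⟩
    refine Subtype.ext ?_
    show QuotientGroup.mk' K q * QuotientGroup.mk' K q = 1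
    rw [← map_mul, QuotientGroup.mk'_apply, QuotientGroup.eq_one_iff, ← pow_two]
    exact (hcenter ⟨q ^ 2, pow_mem hq 2⟩).1 (CfsgLib.PGroups.IsExtraspecial.pow_mem_center hQ ⟨q, hq⟩)
  have hVinv : ∀ u : ↥V, u⁻¹ = u := fun u => inv_eq_of_mul_eq_one_left (hsq u)
  have hVc : ∀ a b : ↥V, a * b = b * a := fun a b => by rw [← hVinv (a * b), mul_inv_rev, hVinv, hVinv]
  letI : CommGroup ↥V := { mul_comm := hVc }
  have hVcard : Nat.card ↥V = 2 ^ 12 := by
    have hKcard : Nat.card K = 2 := by rw [hK, Nat.card_zpowers, ht2]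
    let ν : ↥Q →* ↥(Subgroup.centralizer ({t} : Set G)) ⧸ K := (QuotientGroup.mk' K).comp Q.subtype
    have h := ν.ker.card_mul_index
    rw [Subgroup.index_ker, show ν.range = V by rw [MonoidHom.range_comp, Subgroup.range_subtype], hcard,
      show ν.ker = K.subgroupOf Q by
        rw [← MonoidHom.comap_ker, QuotientGroup.ker_mk']; rfl,
      Nat.card_congr (Subgroup.subgroupOfEquivOfLe hKQ).toEquiv, hKcard] at h
    omega
  let act : ↥M →* MulAut ↥V := (MulAut.conjNormal.comp (QuotientGroup.mk' K)).comp M.subtype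
  have hact : ∀ (m : ↥M) (v : ↥V), ((act m v : ↥V) : ↥(Subgroup.centralizer ({t} : Set G)) ⧸ K) =
      QuotientGroup.mk' K (m : ↥(Subgroup.centralizer ({t} : Set G))) * v * (QuotientGroup.mk' K (m : ↥(Subgroup.centralizer ({t} : Set G))))⁻¹ :=
    fun m v => MulAut.conjNormal_apply _ _
  have hQact : Q.subgroupOf M ≤ act.ker := by
    intro m hm
    refine MonoidHom.mem_ker.2 (MulEquiv.ext fun v => Subtype.ext ?_)
    obtain ⟨v, q, hq, rfl⟩ := v
    rw [hact, MulAut.one_apply]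
    have h1 := congrArg Subtype.val (mul_comm (⟨_, Subgroup.mem_map_of_mem _ (Subgroup.mem_subgroupOf.1 hm)⟩ : ↥V)
      ⟨QuotientGroup.mk' K q, Subgroup.mem_map_of_mem _ hq⟩)
    rw [Subgroup.coe_mul, Subgroup.coe_mul] at h1
    rw [h1, mul_inv_cancel_right]
  let φ : M2 →* MulAut ↥V := QuotientGroup.lift _ act hQact
  have hφp : ∀ v : ↥V, ((φ z v : ↥V) : ↥(Subgroup.centralizer ({t} : Set G)) ⧸ K) = QuotientGroup.mk' K (p : ↥(Subgroup.centralizer ({t} : Set G))) * v * (QuotientGroup.mk' K (p : ↥(Subgroup.centralizer ({t} : Set G))))⁻¹ :=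
    fun v => hact ⟨p, hNM p.2⟩ v
  have hcube : ∀ q : ↥(Subgroup.centralizer ({t} : Set G)), ((p : ↥(Subgroup.centralizer ({t} : Set G))) * q * (p : ↥(Subgroup.centralizer ({t} : Set G)))⁻¹)⁻¹ * q ∈ K → Commute (p : ↥(Subgroup.centralizer ({t} : Set G))) q := by
    intro q h
    set k := ((p : ↥(Subgroup.centralizer ({t} : Set G))) * q * (p : ↥(Subgroup.centralizer ({t} : Set G)))⁻¹)⁻¹ * q with hk
    have h1 : (p : ↥(Subgroup.centralizer ({t} : Set G))) * q * (p : ↥(Subgroup.centralizer ({t} : Set G)))⁻¹ = q * k := by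
      rw [show q * k = q * k⁻¹ by rw [inv_eq_of_mul_eq_one_left (hK2 k h)], hk]; group
    have hkp : (p : ↥(Subgroup.centralizer ({t} : Set G))) * k * (p : ↥(Subgroup.centralizer ({t} : Set G)))⁻¹ = k := by rw [← (hKc k h _).eq, mul_inv_cancel_right]
    have h3 : q = q * k := by
      calc q = (p : ↥(Subgroup.centralizer ({t} : Set G))) ^ 3 * q * ((p : ↥(Subgroup.centralizer ({t} : Set G))) ^ 3)⁻¹ := by rw [hp3]; group
        _ = (p : ↥(Subgroup.centralizer ({t} : Set G))) * ((p : ↥(Subgroup.centralizer ({t} : Set G))) * ((p : ↥(Subgroup.centralizer ({t} : Set G))) * q * (p : ↥(Subgroup.centralizer ({t} : Set G)))⁻¹) * (p : ↥(Subgroup.centralizer ({t} : Set G)))⁻¹) * (p : ↥(Subgroup.centralizer ({t} : Set G)))⁻¹ := by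
          rw [pow_three_eq]; simp only [mul_assoc, mul_inv_rev]
        _ = (p : ↥(Subgroup.centralizer ({t} : Set G))) * ((p : ↥(Subgroup.centralizer ({t} : Set G))) * (q * k) * (p : ↥(Subgroup.centralizer ({t} : Set G)))⁻¹) * (p : ↥(Subgroup.centralizer ({t} : Set G)))⁻¹ := by rw [h1]
        _ = (p : ↥(Subgroup.centralizer ({t} : Set G))) * (q * k * k) * (p : ↥(Subgroup.centralizer ({t} : Set G)))⁻¹ := by
          rw [show (p : ↥(Subgroup.centralizer ({t} : Set G))) * (q * k) * (p : ↥(Subgroup.centralizer ({t} : Set G)))⁻¹ = ((p : ↥(Subgroup.centralizer ({t} : Set G))) * q * (p : ↥(Subgroup.centralizer ({t} : Set G)))⁻¹) * ((p : ↥(Subgroup.centralizer ({t} : Set G))) * k * (p : ↥(Subgroup.centralizer ({t} : Set G)))⁻¹) by group,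
            h1, hkp]
        _ = q * k := by rw [mul_assoc q k k, hK2 k h, mul_one, h1]
    exact mul_inv_eq_iff_eq_mul.1 (h1.trans h3.symm)
  have hne : φ z ≠ 1 := by
    intro h
    refine hpQ (h2c (Subgroup.mem_centralizer_iff.2 fun q hq => ((hcube q ?_).eq).symm))
    have h' := hφp ⟨QuotientGroup.mk' K q, Subgroup.mem_map_of_mem _ hq⟩
    rw [h, MulAut.one_apply, ← map_inv, ← map_mul, ← map_mul] at h'
    exact QuotientGroup.eq.1 h'.symm
  obtain ⟨x, hx⟩ := exists_prime_orderOf_dvd_card' (G := M2) 11 (by rw [hM2card]; norm_num)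
  let θ2 : M2 →* ↥Spor.M22 := QuotientGroup.lift _ θ fun m hm =>
    MonoidHom.mem_ker.2 ((hθ m).2 (hQN (Subgroup.mem_subgroupOf.1 hm)))
  have hθ2s : Function.Surjective θ2 := fun y => by obtain ⟨m, hm⟩ := hθs y; exact ⟨μ m, hm⟩
  have hθ2k : ∀ w, θ2 w = 1 → w ∈ Subgroup.zpowers z := fun w hw => by
    obtain ⟨m, rfl⟩ := hμs w; exact hker m hw
  have hmax : ∀ L : Subgroup M2, L.Normal → x ∈ L → L = ⊤ := by
    intro L hL hxL
    rcases (hL.map θ2 hθ2s).eq_bot_or_eq_top with h | h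
    · exfalso
      have hx1 : θ2 x = 1 := Subgroup.mem_bot.1 (h ▸ Subgroup.mem_map_of_mem θ2 hxL)
      have := orderOf_dvd_of_pow_eq_one (hZ3 _ (hθ2k x hx1))
      rw [hx] at this
      norm_num at this
    · refine eq_top_iff.2 ?_
      rw [← hperf2, commutator_def, Subgroup.commutator_le]
      intro a _ b _
      have dec : ∀ w : M2, ∃ l ∈ L, ∀ y, Commute (l⁻¹ * w) y := fun w => by
        obtain ⟨l, hl, hlw⟩ := (h ▸ Subgroup.mem_top (θ2 w) : θ2 w ∈ L.map θ2)
        exact ⟨l, hl, fun y => hZc _ (hθ2k _ (by rw [map_mul, map_inv, hlw, inv_mul_cancel])) y⟩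
      obtain ⟨l, hl, hla⟩ := dec a
      obtain ⟨l', hl', hlb⟩ := dec b
      have key : ∀ (u k v : M2), (∀ y, Commute k y) → u * k * v * (u * k)⁻¹ * v⁻¹ = u * v * u⁻¹ * v⁻¹ :=
        fun u k v hk => by rw [mul_inv_rev, mul_assoc u k v, (hk v).eq]; group
      have : ⁅a, b⁆ = ⁅l, l'⁆ := by
        rw [commutatorElement_def, commutatorElement_def]
        conv_lhs => rw [show a = l * (l⁻¹ * a) by group]
        rw [key l _ b hla]
        conv_lhs => rw [show b = l' * (l'⁻¹ * b) by group]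
        have k' := hlb
        rw [show l * (l' * (l'⁻¹ * b)) * l⁻¹ * (l' * (l'⁻¹ * b))⁻¹ =
          l * l' * ((l'⁻¹ * b) * l⁻¹) * (l'⁻¹ * b)⁻¹ * l'⁻¹ by group, (k' _).eq]
        group
      rw [this]
      exact mul_mem (mul_mem (mul_mem hl hl') (inv_mem hl)) (inv_mem hl')
  have hfix : ∀ q ∈ Q, Commute (p : ↥(Subgroup.centralizer ({t} : Set G))) q → q ∈ K := by
    intro q hq hc
    have h := fixed_eq_one φ hsq hVcard hz3 hzc hr' hsr' hx hmax hne
      (v := ⟨QuotientGroup.mk' K q, Subgroup.mem_map_of_mem _ hq⟩) (Subtype.ext (by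
        rw [hφp, ← map_inv, ← map_mul, ← map_mul, hc.eq, mul_inv_cancel_right]))
    exact (QuotientGroup.eq_one_iff q).1 (congrArg Subtype.val h)
  -- Frattini
  set P : Subgroup ↥(Subgroup.centralizer ({t} : Set G)) := Subgroup.zpowers (p : ↥(Subgroup.centralizer ({t} : Set G))) with hP
  have hpo : orderOf (p : ↥(Subgroup.centralizer ({t} : Set G))) = 3 := (Subgroup.orderOf_coe p).trans hp
  have hdec : ∀ c : ↥(Subgroup.centralizer ({t} : Set G)), ∃ a ∈ Subgroup.normalizer (P : Set ↥(Subgroup.centralizer ({t} : Set G))), ∃ n ∈ N, a * n = c := by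
    intro c
    have hidx : ¬ 3 ∣ (Subgroup.zpowers p).index := by
      intro hd
      have h1 := (Subgroup.zpowers p).card_mul_index
      rw [Nat.card_zpowers, hp, hN, hcard] at h1
      rw [Nat.eq_of_mul_eq_mul_left (by norm_num) h1] at hd
      norm_num at hd
    let T : Sylow 3 ↥N :=
      (IsPGroup.of_card (n := 1) (by rw [Nat.card_zpowers, hp, pow_one]) : IsPGroup 3 (Subgroup.zpowers p)).toSylow hidx
    have h := Sylow.normalizer_sup_eq_top T
    rw [show (T : Subgroup ↥N) = Subgroup.zpowers p from rfl, MonoidHom.map_zpowers] at h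
    exact Subgroup.mem_sup_of_normal_right.1 (h ▸ Subgroup.mem_top c)
  have hpP : ∀ a ∈ Subgroup.normalizer (P : Set ↥(Subgroup.centralizer ({t} : Set G))), a * p * a⁻¹ ∈ P := fun a ha =>
    (Subgroup.mem_normalizer_iff.1 ha _).1 (Subgroup.mem_zpowers _)
  have hcomN : ∀ n ∈ N, n * p * n⁻¹ * (p : ↥(Subgroup.centralizer ({t} : Set G)))⁻¹ ∈ Q := fun n hn =>
    hcent (Subgroup.commutator_mem_commutator (hNM hn) p.2)
  -- the outer element inverts
  have houter : ∃ a ∈ Subgroup.normalizer (P : Set ↥(Subgroup.centralizer ({t} : Set G))), ¬ Commute a (p : ↥(Subgroup.centralizer ({t} : Set G))) := by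
    by_contra hno
    push Not at hno
    have hfixp : ∀ c : ↥(Subgroup.centralizer ({t} : Set G)), c * p * c⁻¹ * (p : ↥(Subgroup.centralizer ({t} : Set G)))⁻¹ ∈ Q := by
      intro c
      obtain ⟨a, ha, n, hn, rfl⟩ := hdec c
      rw [show a * n * p * (a * n)⁻¹ * (p : ↥(Subgroup.centralizer ({t} : Set G)))⁻¹ =
        a * (n * p * n⁻¹ * (p : ↥(Subgroup.centralizer ({t} : Set G)))⁻¹) * a⁻¹ * (a * p * a⁻¹ * (p : ↥(Subgroup.centralizer ({t} : Set G)))⁻¹) by
          simp only [mul_assoc, mul_inv_rev, inv_mul_cancel_left],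
        (hno a ha).eq, mul_inv_cancel_right, mul_inv_cancel, mul_one]
      exact (inferInstance : Q.Normal).conj_mem _ (hcomN n hn) a
    obtain ⟨Ω, hω⟩ := exists_action N M hNM hM e hout hMcard
    obtain ⟨y, hy⟩ := Ω.surjective α
    obtain ⟨c, rfl⟩ := QuotientGroup.mk'_surjective N y
    set R1 := μ (MulAut.conjNormal c r0) with hR1
    set S1 := μ (MulAut.conjNormal c s0) with hS1
    obtain ⟨a, ha, eR⟩ : ∃ a ∈ Subgroup.zpowers z, R1 = R * S * a := by
      refine ⟨_, hker ((r0 * s0)⁻¹ * MulAut.conjNormal c r0) ?_, ?_⟩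
      · rw [map_mul, map_inv, show θ (MulAut.conjNormal c r0) = α r from
          (hω c r0).symm.trans (by rw [hy]; exact congrArg α hr0), hαr, map_mul, hr0, hs0, inv_mul_cancel]
      · rw [map_mul, map_inv, map_mul, mul_inv_cancel_left]
    obtain ⟨b, hb, eS⟩ : ∃ b ∈ Subgroup.zpowers z, S1 = R * R * S * b := by
      refine ⟨_, hker ((r0 * r0 * s0)⁻¹ * MulAut.conjNormal c s0) ?_, ?_⟩
      · rw [map_mul, map_inv, show θ (MulAut.conjNormal c s0) = α s from
          (hω c s0).symm.trans (by rw [hy]; exact congrArg α hs0), hαs, map_mul, map_mul, hr0, hs0, inv_mul_cancel]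
      · rw [map_mul, map_inv, map_mul, map_mul, mul_inv_cancel_left]
    have h1 : R1 * S1 * R1⁻¹ * S1⁻¹ = c0 := by
      obtain ⟨k, hk⟩ := mem_powers_iff_mem_zpowers.2 hc0Z
      change z ^ k = c0 at hk
      have hzfix : μ (MulAut.conjNormal c ⟨p, hNM p.2⟩) = z := by
        show μ _ = μ _
        rw [← mul_inv_eq_one, ← map_inv, ← map_mul, hμ]
        simpa [MulAut.conjNormal_apply] using hfixp c
      have hQc : ∀ u v : ↥M, μ u = μ v → μ (MulAut.conjNormal c u) = μ (MulAut.conjNormal c v) := fun u v h => by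
        rw [← inv_mul_eq_one, ← map_inv, ← map_mul, ← map_inv, ← map_mul, hμ, MulAut.conjNormal_apply]
        refine (inferInstance : Q.Normal).conj_mem _ ((hμ _).1 ?_) c
        rw [map_mul, map_inv, h, inv_mul_cancel]
      have := hQc (r0 * s0 * r0⁻¹ * s0⁻¹) (⟨p, hNM p.2⟩ ^ k) (by
        rw [map_mul, map_mul, map_mul, map_inv, map_inv, map_pow]; exact hk.symm)
      rw [map_mul, map_mul, map_mul, map_inv, map_inv, map_mul, map_mul, map_mul, map_inv, map_inv, map_pow,
        map_pow, hzfix, hk] at this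
      exact this
    rw [eR, eS, commutator_twist (hZc a ha) (hZc b hb) (hZc c0 hc0Z), ← hc0, inv_eq_iff_mul_eq_one] at h1
    refine hnab ?_
    have h3 := hZ3 c0 hc0Z
    rwa [pow_three_eq, h1, one_mul] at h3
  -- the derived centralizer
  have hderived : (p : ↥(Subgroup.centralizer ({t} : Set G))) ∈ ⁅Subgroup.centralizer ({(p : ↥(Subgroup.centralizer ({t} : Set G)))} : Set ↥(Subgroup.centralizer ({t} : Set G))), Subgroup.centralizer ({(p : ↥(Subgroup.centralizer ({t} : Set G)))} : Set ↥(Subgroup.centralizer ({t} : Set G)))⁆ := by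
    set D := Subgroup.centralizer ({(p : ↥(Subgroup.centralizer ({t} : Set G)))} : Set ↥(Subgroup.centralizer ({t} : Set G))) with hD
    have hMdec : M ≤ D ⊔ Q := by
      intro m hm
      obtain ⟨a, ha, n, hn, rfl⟩ := hdec m
      have haM : a ∈ M := by simpa using mul_mem hm (inv_mem (hNM hn))
      have h1 : a * p * a⁻¹ * (p : ↥(Subgroup.centralizer ({t} : Set G)))⁻¹ ∈ Q := hcent (Subgroup.commutator_mem_commutator haM p.2)
      have h2 : a * p * a⁻¹ * (p : ↥(Subgroup.centralizer ({t} : Set G)))⁻¹ = 1 := by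
        have hbot : P ⊓ Q = ⊥ := Subgroup.inf_eq_bot_of_coprime (by
          rw [Nat.card_zpowers, hpo, hcard]; norm_num)
        rw [← Subgroup.mem_bot, ← hbot]
        exact Subgroup.mem_inf.2 ⟨P.mul_mem (hpP a ha) (P.inv_mem (Subgroup.mem_zpowers _)), h1⟩
      refine mul_mem (Subgroup.mem_sup_left (Subgroup.mem_centralizer_singleton_iff.2
        (mul_inv_eq_iff_eq_mul.1 (mul_inv_eq_one.1 h2)))) ?_
      have hle : N ≤ D ⊔ Q := by
        have hPQ : P ⊔ Q = N := Subgroup.eq_of_le_of_card_ge (sup_le (Subgroup.zpowers_le.2 p.2) hQN) (by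
          have h3 : 3 ∣ Nat.card ↥(P ⊔ Q : Subgroup ↥(Subgroup.centralizer ({t} : Set G))) := by
            have := Subgroup.card_dvd_of_le (le_sup_left : P ≤ P ⊔ Q)
            rwa [Nat.card_zpowers, hpo] at this
          have hq : Nat.card Q ∣ Nat.card ↥(P ⊔ Q : Subgroup ↥(Subgroup.centralizer ({t} : Set G))) := Subgroup.card_dvd_of_le le_sup_right
          rw [hN]
          exact Nat.le_of_dvd Nat.card_pos (Nat.Coprime.mul_dvd_of_dvd_of_dvd (by rw [hcard]; norm_num) h3 hq))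
        rw [← hPQ]
        exact sup_le_sup_right (Subgroup.zpowers_le.2 (Subgroup.mem_centralizer_singleton_iff.2 rfl)) Q
      exact hle hn
    have hcomm : ⁅D ⊔ Q, D ⊔ Q⁆ ≤ ⁅D, D⁆ ⊔ Q := by
      rw [Subgroup.commutator_le]
      intro u hu v hv
      obtain ⟨d, hd, q, hq, rfl⟩ := Subgroup.mem_sup_of_normal_right.1 hu
      obtain ⟨d', hd', q', hq', rfl⟩ := Subgroup.mem_sup_of_normal_right.1 hv
      have hcl : (QuotientGroup.mk' Q) ⁅d * q, d' * q'⁆ = (QuotientGroup.mk' Q) ⁅d, d'⁆ := by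
        have h1 : ∀ w ∈ Q, QuotientGroup.mk' Q w = 1 := fun w hw => (QuotientGroup.eq_one_iff w).2 hw
        simp only [commutatorElement_def, map_mul, map_inv, h1 q hq, h1 q' hq', mul_one]
      refine (Subgroup.mem_sup_of_normal_right).2 ⟨⁅d, d'⁆, Subgroup.commutator_mem_commutator hd hd', _,
        QuotientGroup.eq.1 hcl.symm, mul_inv_cancel_left _ _⟩
    have hpD : (p : ↥(Subgroup.centralizer ({t} : Set G))) ∈ ⁅D, D⁆ ⊔ Q :=
      (sup_le ((Subgroup.commutator_mono hMdec hMdec).trans hcomm) le_sup_right) (hperf (hNM p.2))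
    obtain ⟨d, hd, q, hq, hdq⟩ := Subgroup.mem_sup_of_normal_right.1 hpD
    have hdc : Commute (p : ↥(Subgroup.centralizer ({t} : Set G))) d := (Subgroup.mem_centralizer_singleton_iff.1
      ((Subgroup.commutator_le.2 (fun u hu v hv => mul_mem (mul_mem (mul_mem hu hv) (inv_mem hu)) (inv_mem hv)) : ⁅D, D⁆ ≤ D) hd)).symm
    have hqc : Commute (p : ↥(Subgroup.centralizer ({t} : Set G))) q := by
      have : q = d⁻¹ * p := by rw [← hdq, inv_mul_cancel_left]
      rw [this]
      exact hdc.inv_right.mul_right (Commute.refl _)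
    have hqK := hfix q hq hqc
    have hd' : d = p * q⁻¹ := by rw [← hdq, mul_inv_cancel_right]
    have h4 : d ^ 4 = (p : ↥(Subgroup.centralizer ({t} : Set G))) := by
      rw [hd', hqc.inv_right.mul_pow, pow_succ, hp3, one_mul,
        show q⁻¹ ^ 4 = (q⁻¹ * q⁻¹) * (q⁻¹ * q⁻¹) by rw [pow_succ, pow_succ, pow_two, mul_assoc],
        hK2 _ (inv_mem hqK), one_mul, mul_one]
    exact h4 ▸ pow_mem hd 4
  -- assembly
  refine ⟨?_, ?_⟩
  swap
  · intro hcomm
    exact CfsgLib.PGroups.IsExtraspecial.not_comm hQ ⟨⟨fun a b => Subtype.ext (Subtype.ext (hcomm.1.1 _ _))⟩⟩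
  have hcore : Cfsg.pCore 2 ↥(Subgroup.centralizer ({t} : Set G)) = Q := by
    haveI := CfsgLib.HallGen.pCore_normal' (G := ↥(Subgroup.centralizer ({t} : Set G))) 2
    refine le_antisymm ?_ (le_sSup ⟨inferInstance, hQ.1.1⟩)
    set O := Cfsg.pCore 2 ↥(Subgroup.centralizer ({t} : Set G)) with hO
    have hOp : IsPGroup 2 O := CfsgLib.HallGen.isPGroup_pCore 2
    have hOM : O ⊓ M ≤ N := by
      intro c hc
      have hn : ((O.subgroupOf M).map θ).Normal := Subgroup.Normal.map Subgroup.normal_subgroupOf θ hθs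
      rcases hn.eq_bot_or_eq_top with h | h
      · refine (hθ ⟨c, hc.2⟩).1 (Subgroup.mem_bot.1 (h ▸ Subgroup.mem_map_of_mem θ ?_))
        exact Subgroup.mem_subgroupOf.2 hc.1
      · exfalso
        have hp' : IsPGroup 2 ↥((O.subgroupOf M).map θ) := (hOp.comap_subtype (K := M)).map θ
        obtain ⟨n, hn'⟩ := IsPGroup.iff_card.1 hp'
        rw [h, Subgroup.card_top, CfsgLib.Sporadic.card_sporM22] at hn'
        have h11 : 11 ∣ 2 ^ n := hn' ▸ (by norm_num : 11 ∣ 443520)
        have := Nat.le_of_dvd (by norm_num) ((by norm_num : Nat.Prime 11).dvd_of_dvd_pow h11)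
        omega
    have hON : O ⊓ N ≤ Q := by
      intro c hc
      obtain ⟨k, hk⟩ := hOp ⟨c, hc.1⟩
      have hk' : c ^ 2 ^ k = 1 := congrArg Subtype.val hk
      have hcz := hker ⟨c, hNM hc.2⟩ ((hθ _).2 hc.2)
      refine (hμ ⟨c, hNM hc.2⟩).1 ?_
      have h1 : μ ⟨c, hNM hc.2⟩ ^ 2 ^ k = 1 := by
        rw [← map_pow, hμ]
        show c ^ 2 ^ k ∈ Q
        rw [hk']; exact one_mem Q
      have h2 := hZ3 _ hcz
      exact orderOf_eq_one_iff.1 (Nat.eq_one_of_dvd_coprimes
        (Nat.Coprime.pow_left k (by norm_num : Nat.Coprime 2 3))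
        (orderOf_dvd_of_pow_eq_one h1) (orderOf_dvd_of_pow_eq_one h2))
    intro c hc
    have hcM : c ∈ M := hout c fun m hm => hQN (hON ⟨
      (by rw [show c * m * c⁻¹ * m⁻¹ = c * (m * c⁻¹ * m⁻¹) by group]
          exact O.mul_mem hc ((inferInstance : O.Normal).conj_mem _ (O.inv_mem hc) m)),
      hOM ⟨(by rw [show c * m * c⁻¹ * m⁻¹ = c * (m * c⁻¹ * m⁻¹) by group]
               exact O.mul_mem hc ((inferInstance : O.Normal).conj_mem _ (O.inv_mem hc) m)),
        M.mul_mem ((inferInstance : M.Normal).conj_mem _ hm c) (M.inv_mem hm)⟩⟩)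
    exact hON ⟨hc, hOM ⟨hc, hcM⟩⟩
  have hE : twoCoreOfCentralizer t = Q.map (Subgroup.centralizer ({t} : Set G)).subtype := by rw [twoCoreOfCentralizer]; exact congrArg _ hcore
  have hinj := (Subgroup.centralizer ({t} : Set G)).subtype_injective
  have hmap : ∀ X : Subgroup ↥(Subgroup.centralizer ({t} : Set G)), Nat.card ↥(X.map (Subgroup.centralizer ({t} : Set G)).subtype) = Nat.card X := fun X =>
    Subgroup.card_map_of_injective hinj
  have hmemH : ∀ {g : G} {X : Subgroup ↥(Subgroup.centralizer ({t} : Set G))} (hg : g ∈ (Subgroup.centralizer ({t} : Set G))), g ∈ X.map (Subgroup.centralizer ({t} : Set G)).subtype ↔ (⟨g, hg⟩ : ↥(Subgroup.centralizer ({t} : Set G))) ∈ X :=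
    fun {g X} hg => Subgroup.mem_map_iff_mem (f := (Subgroup.centralizer ({t} : Set G)).subtype) hinj (x := ⟨g, hg⟩)
  have hPmap : P.map (Subgroup.centralizer ({t} : Set G)).subtype = Subgroup.zpowers ((p : ↥(Subgroup.centralizer ({t} : Set G))) : G) := MonoidHom.map_zpowers _ _
  have hcP : ∀ {c : ↥(Subgroup.centralizer ({t} : Set G))}, (c : G) ∈ Subgroup.centralizer ((P.map (Subgroup.centralizer ({t} : Set G)).subtype : Subgroup G) : Set G) ↔
      Commute c (p : ↥(Subgroup.centralizer ({t} : Set G))) := by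
    intro c
    rw [hPmap, Subgroup.zpowers_eq_closure, Subgroup.centralizer_closure, Subgroup.mem_centralizer_singleton_iff]
    exact ⟨fun h => Subtype.ext h, fun h => congrArg Subtype.val h⟩
  have hCP : (Subgroup.centralizer ({t} : Set G)) ⊓ Subgroup.centralizer ((P.map (Subgroup.centralizer ({t} : Set G)).subtype : Subgroup G) : Set G) =
      (Subgroup.centralizer ({(p : ↥(Subgroup.centralizer ({t} : Set G)))} : Set ↥(Subgroup.centralizer ({t} : Set G)))).map (Subgroup.centralizer ({t} : Set G)).subtype := by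
    ext g
    constructor
    · exact fun hg => ⟨⟨g, hg.1⟩, Subgroup.mem_centralizer_singleton_iff.2 (hcP.1 hg.2).eq, rfl⟩
    · rintro ⟨c, hc, rfl⟩
      exact ⟨c.2, hcP.2 (Subgroup.mem_centralizer_singleton_iff.1 hc)⟩
  have hext : Cfsg.IsExtraspecial 2 ↥(twoCoreOfCentralizer t) :=
    CfsgLib.ThreeTrans.isExtraspecial_congr hQ
      ((Q.equivMapOfInjective (Subgroup.centralizer ({t} : Set G)).subtype hinj).trans (MulEquiv.subgroupCongr hE.symm))
  refine ⟨P.map (Subgroup.centralizer ({t} : Set G)).subtype, ht, hext, by rw [hE, hmap, hcard], ?_, ⟨N.map (Subgroup.centralizer ({t} : Set G)).subtype, by rw [hE]; exact Subgroup.map_mono hQN,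
    Subgroup.map_subtype_le N, ?_, by rw [hE, hmap, hmap, hN], ?_, Subgroup.map_mono (Subgroup.zpowers_le.2 p.2)⟩,
    by rw [hmap, Nat.card_zpowers, hpo], ?_, ?_, ?_⟩
  · rintro g ⟨hg, hgc⟩
    rw [hE] at hgc ⊢
    refine (hmemH hg).2 (h2c (Subgroup.mem_centralizer_iff.2 fun q hq => Subtype.ext ?_))
    exact Subgroup.mem_centralizer_iff.1 hgc _ (Subgroup.mem_map_of_mem _ hq)
  · refine Subgroup.normal_subgroupOf_iff_le_normalizer (Subgroup.map_subtype_le N) |>.1 ?_
    rw [Subgroup.subgroupOf, Subgroup.comap_map_eq_self_of_injective hinj]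
    infer_instance
  · have hsub : (N.map (Subgroup.centralizer ({t} : Set G)).subtype).subgroupOf (Subgroup.centralizer ({t} : Set G)) = N := Subgroup.comap_map_eq_self_of_injective hinj N
    have hn : ((N.map (Subgroup.centralizer ({t} : Set G)).subtype).subgroupOf (Subgroup.centralizer ({t} : Set G))).Normal :=
      hsub.symm ▸ (inferInstance : N.Normal)
    refine ⟨hn, ?_⟩
    haveI := hn
    -- the quotient is the automorphism group
    exact ⟨(QuotientGroup.quotientMulEquivOfEq hsub).trans (exists_action N M hNM hM e hout hMcard).choose⟩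
  · ext g
    constructor
    · intro hg
      obtain ⟨q, hq, rfl⟩ : g ∈ Q.map (Subgroup.centralizer ({t} : Set G)).subtype := hE ▸ hg.1
      obtain ⟨i, hi⟩ := hfix q hq (hcP.1 hg.2).symm
      exact ⟨i, (SubgroupClass.coe_zpow tC i).symm.trans (congrArg Subtype.val hi)⟩
    · rintro ⟨i, rfl⟩
      have hm : ((tC ^ i : ↥(Subgroup.centralizer ({t} : Set G))) : G) = t ^ i := SubgroupClass.coe_zpow tC i
      refine ⟨?_, ?_⟩
      · rw [hE]; exact ⟨tC ^ i, zpow_mem htQ i, hm⟩
      · show t ^ i ∈ Subgroup.centralizer ((P.map (Subgroup.centralizer ({t} : Set G)).subtype : Subgroup G) : Set G)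
        rw [← hm]; exact hcP.2 ((htc _).zpow_left i)
  · intro hnc
    obtain ⟨a, ha, hna⟩ := houter
    refine hna (hcP.1 ?_)
    have : (a : G) ∈ (Subgroup.centralizer ({t} : Set G)) ⊓ Subgroup.normalizer ((P.map (Subgroup.centralizer ({t} : Set G)).subtype : Subgroup G) : Set G) :=
      ⟨a.2, Subgroup.le_normalizer_map (Subgroup.centralizer ({t} : Set G)).subtype (Subgroup.mem_map_of_mem (Subgroup.centralizer ({t} : Set G)).subtype ha)⟩
    rw [hnc] at this
    exact this.2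
  · rw [hCP, ← Subgroup.map_commutator]
    exact Subgroup.map_mono (Subgroup.zpowers_le.2 hderived)

end CfsgLib.JankoFourBridge
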