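import Cfsg.Agent.Lib.JankoFour.SecondCentralizer

/-!
# Two classes of involutions in groups of Janko-four type (owner: helper28)
-/

set_option autoImplicit false

namespace CfsgLib.JankoFourBridge

open Cfsg CfsgLib.JankoFour CfsgLib.JankoFourHexad

/-- A second class exists and there is no third. -/
theorem exists_second_class {G : Type*} [Group G] [Finite G] [IsSimpleGroup G] (hG : ¬ IsMulCommutative G) {z : G}
    (hJ : IsOfJankoFourTypeAt z) :
    ∃ u : G, orderOf u = 2 ∧ ¬ IsConj z u ∧ ∀ w : G, orderOf w = 2 → IsConj w z ∨ IsConj w u := by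
  classical
  have hJ' : IsOfJankoFourType G := ⟨z, hJ⟩
  obtain ⟨P, hP⟩ := hJ
  obtain ⟨S, rfl, rfl⟩ := exists_setting hP
  obtain ⟨B⟩ := S.exists_hexBase
  obtain ⟨-, hD, -⟩ := B.duads_spec hG hJ'
  have h2D : dMask.testBit 2 = true := by decide +kernel
  obtain ⟨h20, h2z⟩ := (hD 2 (by norm_num)).1 h2D
  have h1 : B.vel 2 ≠ 1 := fun e => h20 (B.vel_inj (by norm_num) (by norm_num) (e.trans B.vel_zero.symm))
  have hord : orderOf (B.vel 2) = 2 :=
    orderOf_eq_prime (hp := ⟨Nat.prime_two⟩) (B.V_elementary.2 _ (B.vel_mem (by norm_num))) h1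
  refine ⟨B.vel 2, hord, h2z, fun w hw => ?_⟩
  by_cases hwz : IsConj S.z w
  · exact Or.inl hwz.symm
  · exact Or.inr ((B.isConj_duadRep hG hJ' hw hwz).symm.trans (B.isConj_duadRep hG hJ' hord h2z))

/-- Exactly two classes of involutions. -/
theorem exists_two_classes {G : Type*} [Group G] [Finite G] [IsSimpleGroup G] (hG : ¬ IsMulCommutative G) {z : G}
    (hJ : IsOfJankoFourTypeAt z) :
    ∃ x y : G, orderOf x = 2 ∧ orderOf y = 2 ∧ ¬ IsConj x y ∧
      ∀ w : G, orderOf w = 2 → IsConj w x ∨ IsConj w y := by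
  obtain ⟨u, hu, hzu, h⟩ := exists_second_class hG hJ
  obtain ⟨P, hP⟩ := hJ
  exact ⟨z, u, hP.1, hu, hzu, h⟩

end CfsgLib.JankoFourBridge
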