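import Cfsg.Agent.Lib.JankoFourBridge.Bridge
import Cfsg.Agent.Lib.JankoFourBridge.Classes
import Cfsg.Agent.Lib.JankoFourOrder.Sig
import Cfsg.Agent.Lib.JankoFourOrder.DualCount

/-!
# The order from the involution centralizer, up to the count at `z` (owner: helper28)
-/

set_option autoImplicit false

namespace CfsgLib.JankoFourBridge

open Cfsg CfsgLib.JankoFour

/-- A group of Janko-four type has the order of `J₄` once the pairs at `z` are counted. -/
theorem card_of_type {G : Type*} [Group G] [Finite G] [IsSimpleGroup G] (hG : ¬ IsMulCommutative G)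
    (hJ : IsOfJankoFourType G)
    (hz : ∀ (S : Setting G) (B : HexBase S), B.CentralPairCount) :
    Nat.card G = 86775571046077562880 := by
  obtain ⟨z, P, hP⟩ := id hJ
  obtain ⟨S, -, -⟩ := exists_setting hP
  obtain ⟨B⟩ := S.exists_hexBase
  exact B.card_of_counts hG hJ (B.duad_centralizer_card hG hJ) (B.duad_pair_count hG hJ) (hz S B)

end CfsgLib.JankoFourBridge
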