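import Cfsg.Agent.Lib.JankoFour.M22Facts
import Cfsg.Agent.Lib.JankoFour.PairAut

/-!
# An automorphism of M22 of determinant `-1` on a Sylow 3-subgroup (owner: helper28)

`swapPerm` is an element of M24 exchanging the two fixed points with `σ r σ⁻¹ = r s` and
`σ s σ⁻¹ = r² s` for the generators `r`, `s` of a Sylow 3-subgroup of M22.
-/

set_option autoImplicit false

namespace CfsgLib.JankoFourBridge

open Cfsg CfsgLib.Sporadic CfsgLib.Sporadic.Hexad22 CfsgLib.JankoFour CfsgLib.JankoFour.M22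

/-- The packed outer element. -/
def swapPerm : ℕ := 24921420864120946244100428967161911

theorem swap_ok : Fusion.in22 pr = true ∧ Fusion.in22 ps = true ∧ isAut swapPerm = true ∧
    Nat.beq (pget swapPerm 23) 0 = true ∧ Nat.beq (pget swapPerm 0) 23 = true ∧
    Nat.beq (pmul pr (pmul pr pr)) pone = true ∧ Nat.beq (pmul ps (pmul ps ps)) pone = true ∧
    Nat.beq (pmul pr ps) (pmul ps pr) = true ∧
    Nat.beq (pmul swapPerm pr) (pmul (pmul pr ps) swapPerm) = true ∧
    Nat.beq (pmul swapPerm ps) (pmul (pmul (pmul pr pr) ps) swapPerm) = true ∧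
    Nat.beq (pget pr 2) 2 = true ∧ Nat.beq (pget pr 5) 14 = true ∧ Nat.beq (pget ps 2) 3 = true ∧
    Nat.beq (pget (pmul ps ps) 2) 4 = true := by
  decide +kernel

theorem exists_auto : ∃ (α : MulAut ↥Spor.M22) (r s : ↥Spor.M22), r ^ 3 = 1 ∧ s ^ 3 = 1 ∧ Commute r s ∧
    (∀ i j : ℕ, i < 3 → j < 3 → r ^ i * s ^ j = 1 → i = 0 ∧ j = 0) ∧ α r = r * s ∧ α s = r * r * s := by
  obtain ⟨hr0, hs0, hσ0, h23, h0, er, es, ers, eσr, eσs, r2, r5, s2, ss2⟩ := swap_ok
  obtain ⟨r, hr⟩ := exists_repM hr0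
  obtain ⟨s, hs⟩ := exists_repM hs0
  obtain ⟨σ, hσ, hσr⟩ := exists_mem_M24 hσ0
  have hp23 : (none : GolayPt) = pt 23 := by decide
  have hp0 : (some 0 : GolayPt) = pt 0 := by decide
  have hσn : σ none = some 0 := by
    refine ix_injective ?_
    rw [← hσr none, show ix none = 23 from rfl, Nat.eq_of_beq_eq_true h23]
    decide
  have hσ0' : σ (some 0) = none := by
    refine ix_injective ?_
    rw [← hσr (some 0), show ix (some 0 : GolayPt) = 0 by decide, Nat.eq_of_beq_eq_true h0]
    rfl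
  let g : ↥pairGroup := ⟨⟨σ, hσ⟩, mem_pairGroup.2 (Or.inr ⟨hσn, hσ0'⟩)⟩
  have eq1 : ∀ {x : ↥Spor.M22} {p : ℕ}, RepM x p → Nat.beq p pone = true → x = 1 := fun hx e => by
    rw [Nat.eq_of_beq_eq_true e] at hx
    exact Subtype.ext (Sporadic.Rep.unique hx Rep.one)
  have cube : ∀ {x : ↥Spor.M22} {p : ℕ}, RepM x p → Nat.beq (pmul p (pmul p p)) pone = true → x ^ 3 = 1 :=
    fun {x p} hx e => by rw [pow_succ', pow_two]; exact eq1 (repM_mul hx (repM_mul hx hx)) e
  have conjEq : ∀ {x y : ↥Spor.M22} {p q : ℕ}, RepM x p → RepM y q →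
      Nat.beq (pmul swapPerm p) (pmul q swapPerm) = true → pairConj g x = y := fun {x y p q} hx hy e => by
    refine Subtype.ext ?_
    rw [pairConj_apply]
    show σ * (x : Equiv.Perm GolayPt) * σ⁻¹ = y
    rw [Fusion.Cert.eq_of_beq (hσr.mul hx) (hy.mul hσr) e, mul_inv_cancel_right]
  refine ⟨pairConj g, r, s, cube hr er, cube hs es, eq_of_packed hr hs hs hr ers, ?_,
    conjEq hr (repM_mul hr hs) eσr, conjEq hs (repM_mul (repM_mul hr hr) hs) eσs⟩
  intro i j hi hj h
  have ap : ∀ {x : ↥Spor.M22} {p k l : ℕ}, RepM x p → k < 24 → l < 24 → Nat.beq (pget p k) l = true →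
      (x : Equiv.Perm GolayPt) (pt k) = pt l := fun hx hk hl e => pt_apply hx hk hl e
  have hr2 := ap hr (by norm_num) (by norm_num) r2
  have hj0 : j = 0 := by
    have hfix : ∀ k, ((r : Equiv.Perm GolayPt) ^ k) (pt 2) = pt 2 := fun k =>
      Equiv.Perm.pow_apply_eq_self_of_apply_eq_self hr2 k
    have hc : ((s : Equiv.Perm GolayPt) ^ j) (pt 2) = pt 2 := by
      have h' : (s : Equiv.Perm GolayPt) ^ j = ((r : Equiv.Perm GolayPt) ^ i)⁻¹ := by
        rw [eq_inv_iff_mul_eq_one]
        have := congrArg Subtype.val ((show Commute r s from eq_of_packed hr hs hs hr ers).pow_pow i j).eq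
        simp only [Subgroup.coe_mul, SubmonoidClass.coe_pow] at this
        rw [← this]
        exact congrArg Subtype.val h
      rw [h', Equiv.Perm.inv_eq_iff_eq, hfix]
    interval_cases j
    · rfl
    · rw [pow_one, ap hs (by norm_num) (by norm_num) s2] at hc
      exact absurd hc (by decide)
    · rw [pow_two] at hc
      have := ap (repM_mul hs hs) (by norm_num) (by norm_num) ss2
      rw [Subgroup.coe_mul] at this
      rw [this] at hc
      exact absurd hc (by decide)
  subst hj0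
  rw [pow_zero, mul_one] at h
  refine ⟨?_, rfl⟩
  by_contra hi0
  have h1 : r = 1 := by
    have h3 := cube hr er
    interval_cases i
    · exact absurd rfl hi0
    · rwa [pow_one] at h
    · rwa [pow_succ, h, one_mul] at h3
  have := ap hr (by norm_num) (by norm_num) r5
  rw [h1] at this
  exact absurd this (by decide)

end CfsgLib.JankoFourBridge
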